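import Cfsg.Agent.AbInv.Sys

/-! Groups in which the centralizer of every involution is abelian: the generic case. -/

set_option autoImplicit false
set_option linter.unusedSectionVars false

namespace Cfsg.Agent.AbInv

open Subgroup Cfsg.Agent.Stein

universe v

variable {G : Type v} [Group G] [Finite G]

theorem sys_sq {F : Type*} [Field F] [CharP F 2] (S : SL2Sys F G) (a : F) : S.x a * S.x a = 1 := by
  rw [← S.x_add, CharTwo.add_self_eq_zero, S.x_zero]

theorem Cfg.exists_inv {t u : G} (X : Cfg t u) {D : Subgroup G}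
    (hD : ∀ g, ∃ c, Commute t c ∧ g * c ∈ D) : ∃ s ∈ D, Inv s := by
  by_contra h
  push Not at h
  obtain ⟨F, _, _, _, S, -, h1, -⟩ := X.sys
  obtain ⟨k, hk, h2⟩ := X.exists_K_ne
  obtain ⟨c, h3, h4⟩ := hD k
  obtain ⟨d, h5, h6⟩ := X.conj_surj hk h2 h3
  obtain ⟨e, h7, h8⟩ := hD (d * u * d⁻¹)
  rw [h6] at h4
  have A := X.H.ab
  have h9 := mul_mem h4 (mul_mem (mul_mem (inv_mem h8) h4) h8)
  have e1 : d * k * d⁻¹ * ((d * u * d⁻¹ * e)⁻¹ * (d * k * d⁻¹) * (d * u * d⁻¹ * e)) =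
      k * e⁻¹ * k⁻¹ * e := by
    have e2 := X.K_inv hk
    rw [X.hu.inv] at e2
    have e3 := (A _ _ _ X.ht h5 h7).eq
    have e4 := (A _ _ _ X.ht h5 (A.conj_N hk.1 h7.inv_right)).eq
    calc _ = d * k * (e * d)⁻¹ * d * (u⁻¹ * k * u) * d⁻¹ * e := by group
      _ = d * (k * e⁻¹ * k⁻¹) * d⁻¹ * e := by rw [X.hu.inv, e2, ← e3]; group
      _ = _ := by rw [e4]; group
  rw [e1] at h9
  obtain ⟨a, ha⟩ := (h1 _).1 ((A.conj_N hk.1 h7.inv_right).mul_right h7)
  have e5 : k * e⁻¹ * k⁻¹ * e = 1 := by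
    by_contra e; exact h _ h9 ⟨ha ▸ sys_sq S a, e⟩
  have e6 : e⁻¹ = 1 := X.fpf hk h2 h7.inv_right 
    (mul_inv_eq_iff_eq_mul.1 (eq_inv_of_mul_eq_one_left e5))
  rw [inv_eq_one.1 e6, mul_one] at h8
  exact h _ h8 (X.hu.conj d)

namespace Hyp
variable (H : Hyp G)
include H

theorem center_eq {z : G} (hz : z ∈ center G) (h : z * z = 1) : z = 1 := by
  by_contra h1
  obtain ⟨s, t, -, -, h2⟩ := H.non
  exact h2 (H.ab z s t ⟨h, h1⟩ (mem_center_iff.1 hz s).symm (mem_center_iff.1 hz t).symm)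

theorem exists_lift {g : G ⧸ center G} (h : g * g = 1) : ∃ s : G, s * s = 1 ∧ (s : G ⧸ center G) = g := by
  obtain ⟨g, rfl⟩ := QuotientGroup.mk_surjective g
  have h1 : g * g ∈ center G := (QuotientGroup.eq_one_iff _).1 h
  rcases Nat.even_or_odd (orderOf (g * g)) with h2 | ⟨k, hk⟩
  · obtain ⟨k, hk⟩ := exists_inv_pow h2 (orderOf_pos _).ne'
    exact absurd (H.center_eq (pow_mem h1 k) hk.1) hk.2
  · refine ⟨g * (g * g) ^ k, ?_, ?_⟩
    · rw [← pow_orderOf_eq_one (g * g), hk, ← sq, ← sq]; group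
    · rw [QuotientGroup.mk_mul, (QuotientGroup.eq_one_iff _).2 (pow_mem h1 k), mul_one]

theorem lift_unique {s s' : G} (h : s * s = 1) (h' : s' * s' = 1)
    (e : (s : G ⧸ center G) = s') : s = s' := by
  have h1 := QuotientGroup.eq.1 e
  refine inv_mul_eq_one.1 (H.center_eq h1 ?_)
  calc s⁻¹ * s' * (s⁻¹ * s') = s⁻¹ * (s' * (s⁻¹ * s')) := by group
    _ = (s * s)⁻¹ * (s' * s') := by rw [mem_center_iff.1 h1 s']; group
    _ = 1 := by rw [h, h']; simp

theorem comm_lift {s g : G} (h : s * s = 1) (e : Commute (s : G ⧸ center G) g) : Commute s g := by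
  have := H.lift_unique (s := g * s * g⁻¹) (by rw [conj_mul, h]; simp) h (by
    rw [QuotientGroup.mk_mul, QuotientGroup.mk_mul, QuotientGroup.mk_inv, ← e.eq,
      mul_inv_cancel_right])
  exact (mul_inv_eq_iff_eq_mul.1 this).symm

theorem inv_mk {s : G} (h : Inv s) : Inv (s : G ⧸ center G) :=
  ⟨by rw [← QuotientGroup.mk_mul, h.1]; rfl,
    fun e => h.2 (H.center_eq ((QuotientGroup.eq_one_iff _).1 e) h.1)⟩

theorem quot : Hyp (G ⧸ center G) := by
  refine ⟨fun t a b ht ha hb => ?_, ?_, ?_⟩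
  · obtain ⟨t, h1, rfl⟩ := H.exists_lift ht.1
    obtain ⟨a, rfl⟩ := QuotientGroup.mk_surjective a
    obtain ⟨b, rfl⟩ := QuotientGroup.mk_surjective b
    exact (H.ab t a b ⟨h1, fun e => ht.2 (by rw [e]; rfl)⟩ (H.comm_lift h1 ha)
      (H.comm_lift h1 hb)).map (QuotientGroup.mk' _)
  · obtain ⟨s, t, h1, h2, h3, h4⟩ := H.four
    exact ⟨s, t, H.inv_mk h1, H.inv_mk h2, fun e => h3 (H.lift_unique h1.1 h2.1 e),
      h4.map (QuotientGroup.mk' _)⟩
  · obtain ⟨s, t, h1, h2, h3⟩ := H.non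
    exact ⟨s, t, H.inv_mk h1, H.inv_mk h2, fun e => h3 (H.comm_lift h1.1 e)⟩

theorem eq_top {B : Subgroup G} {t : G} (ht : Inv t) (h1 : ∀ c, Commute t c → c ∈ B)
    (h2 : ∀ s, Inv s → s ∈ B) : B = ⊤ := by
  have key : ∀ g, g ∉ H.ab.N ht → g ∈ B := fun g hg => by
    obtain ⟨c, h3, h4⟩ := H.ab.exists_coset hg
    refine (mul_mem_cancel_right (h1 c h3)).1 ?_
    by_cases e : g * c = 1
    · rw [e]; exact one_mem _
    · exact h2 _ ⟨h4, e⟩
  rw [eq_top_iff]
  intro g _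
  by_cases hg : g ∈ H.ab.N ht
  · obtain ⟨u, h3, h4⟩ := H.exists_non ht
    exact (mul_mem_cancel_left (h2 u h3)).1 (key _ fun e =>
      H.ab.not_mem_N h3.1 h4 ((mul_mem_cancel_right hg).1 e))
  · exact key g hg

theorem center_quot : center (G ⧸ center G) = ⊥ := by
  rw [eq_bot_iff]
  intro a ha
  obtain ⟨a, rfl⟩ := QuotientGroup.mk_surjective a
  have h1 : ∀ s, Inv s → Commute s a := fun s hs => H.comm_lift hs.1 (mem_center_iff.1 ha _)
  obtain ⟨t, -, ht, -⟩ := H.non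
  have := H.eq_top (B := centralizer {a}) ht
    (fun c hc => mem_centralizer_singleton_iff.2 (H.ab _ _ _ ht hc (h1 t ht)))
    fun s hs => mem_centralizer_singleton_iff.2 (h1 s hs)
  exact (QuotientGroup.eq_one_iff _).2 (mem_center_iff.2 fun g =>
    mem_centralizer_singleton_iff.1 (this ▸ mem_top g))

end Hyp

theorem inv_coe {B : Subgroup G} {s : B} : Inv (s : G) ↔ Inv s := by
  simp only [Inv, Ne, ← Subtype.coe_inj, coe_mul, coe_one]

theorem commute_coe {B : Subgroup G} {a b : B} : Commute (a : G) b ↔ Commute a b := by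
  simp only [Commute, SemiconjBy, ← Subtype.coe_inj, coe_mul]

theorem mh_of_hyp (n : ℕ) : ∀ (G : Type v) [Group G] [Finite G], Nat.card G = n → Hyp G →
    center G = ⊥ → MH G := by
  induction n using Nat.strong_induction_on with
  | _ n ih =>
  intro G _ _ hn H hZ t a g ht ha hta hag
  by_contra hg
  set B := centralizer ({a} : Set G) with hB
  have mB : ∀ {x}, x ∈ B ↔ Commute x a := mem_centralizer_singleton_iff
  have hC : ∀ c, Commute t c → c ∈ B := fun c hc => mB.2 (H.ab _ _ _ ht hc hta)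
  have hne : B ≠ ⊤ := fun e => ha (mem_bot.1 (hZ ▸ mem_center_iff.2 fun x => mB.1 (e ▸ mem_top x)))
  have htB : t ∈ B := mB.2 hta
  have hgB : g ∈ B := mB.2 hag.symm
  have HB : Hyp B := by
    refine ⟨fun s x y h1 h2 h3 => commute_coe.1 (H.ab s x y (inv_coe.2 h1) (commute_coe.2 h2)
      (commute_coe.2 h3)), ?_, ⟨⟨t, htB⟩, ⟨g * t * g⁻¹, mul_mem (mul_mem hgB htB) (inv_mem hgB)⟩,
        inv_coe.1 ht, inv_coe.1 (ht.conj g), fun e => hg (commute_coe.2 e)⟩⟩
    obtain ⟨s, h1, h2, h3⟩ := H.exists_second ht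
    exact ⟨⟨s, hC s h3⟩, ⟨t, htB⟩, inv_coe.1 h1, inv_coe.1 ht,
      fun e => h2 (congrArg Subtype.val e), commute_coe.1 h3.symm⟩
  have hconj : ∀ x, x * t * x⁻¹ ∈ B → x ∈ B := fun x hx => by
    obtain ⟨y, hy⟩ := HB.conj (s := ⟨t, htB⟩) (t := ⟨_, hx⟩) (inv_coe.1 ht) (inv_coe.1 (ht.conj x))
    have hy' : y * t * (y : G)⁻¹ = x * t * x⁻¹ := congrArg Subtype.val hy
    refine (mul_mem_cancel_left (inv_mem y.2)).1 (hC _ ?_)
    rw [Commute, SemiconjBy]
    calc _ = (y : G)⁻¹ * (y * t * (y : G)⁻¹) * x := by group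
      _ = _ := by rw [hy']; group
  obtain ⟨w, hw, hwB⟩ : ∃ w, Inv w ∧ w ∉ B := by
    by_contra h; push Not at h; exact hne (H.eq_top ht hC h)
  have hM := ih _ (by
    rw [← hn]
    refine (Nat.card_le_card_of_surjective _ QuotientGroup.mk_surjective).trans_lt ?_
    exact (card_le_card_group B).lt_of_ne fun e => hne (eq_top_of_card_eq _ e))
    (B ⧸ center B) rfl HB.quot HB.center_quot
  have ht' : Inv ((⟨t, htB⟩ : B) : B ⧸ center B) := HB.inv_mk (inv_coe.1 ht)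
  obtain ⟨u, hu, hu'⟩ := HB.quot.exists_non ht'
  have X : Cfg _ u := ⟨HB.quot, hM, ht', hu, hu'⟩
  let D : Subgroup B := B.comap ((MulAut.conj w).toMonoidHom.comp B.subtype)
  have mD : ∀ {x : B}, x ∈ D ↔ w * x * w⁻¹ ∈ B := Iff.rfl
  have noinv : ∀ s ∈ D, ¬ Inv s := fun s hs h => by
    obtain ⟨y, hy⟩ := HB.conj (s := ⟨t, htB⟩) (inv_coe.1 ht) h
    have hy' : y * t * (y : G)⁻¹ = s := congrArg Subtype.val hy
    refine hwB ((mul_mem_cancel_right y.2).1 (hconj _ ?_))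
    rw [mD, ← hy'] at hs
    simpa [mul_assoc] using hs
  obtain ⟨_, ⟨d, hd, rfl⟩, h1⟩ := X.exists_inv (D := D.map (QuotientGroup.mk' _)) fun x => by
    obtain ⟨x, rfl⟩ := QuotientGroup.mk_surjective x
    obtain ⟨c, h1, h2⟩ := H.ab.exists_coset (ht := ht) (g := w * x) fun e =>
      hwB ((mul_mem_cancel_right x.2).1 (hconj _ (hC _ e)))
    refine ⟨(⟨c, hC c h1⟩ : B), (commute_coe.1 h1).map (QuotientGroup.mk' _),
      x * ⟨c, hC c h1⟩, mD.2 ?_, rfl⟩
    have : w * (x * c) * w⁻¹ = (x * c)⁻¹ := by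
      refine eq_inv_of_mul_eq_one_left ?_
      rw [hw.inv, ← h2]; group
    rw [coe_mul, this]
    exact inv_mem (mul_mem x.2 (hC c h1))
  rcases Nat.even_or_odd (orderOf d) with h2 | ⟨k, hk⟩
  · obtain ⟨k, hk⟩ := exists_inv_pow h2 (orderOf_pos _).ne'
    exact noinv _ (pow_mem hd k) hk
  · have := congrArg (QuotientGroup.mk' (center B)) (pow_orderOf_eq_one d)
    rw [hk, map_pow, pow_succ, pow_mul, sq, h1.1, one_pow, one_mul, map_one] at this
    exact h1.2 this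

theorem Hyp.main (H : Hyp G) : ∃ (F : Type) (_ : Field F) (_ : Finite F), CharP F 2 ∧
    Nonempty (G ≃* Matrix.SpecialLinearGroup (Fin 2) F × center G) := by
  obtain ⟨t, u, ht, hu, htu⟩ := H.non
  have X : Cfg (t : G ⧸ center G) u := ⟨H.quot, mh_of_hyp _ _ rfl H.quot H.center_quot,
    H.inv_mk ht, H.inv_mk hu, fun e => htu (H.comm_lift ht.1 e)⟩
  obtain ⟨F, _, _, _, S, h1, h2, h3, h4⟩ := X.sys
  choose x hx1 hx2 using fun a => H.exists_lift (sys_sq S a)
  have xadd : ∀ a b, x (a + b) = x a * x b := fun a b => H.lift_unique (hx1 _) (by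
    have : Commute (x a) (x b) := H.comm_lift (hx1 a) (by
      rw [hx2, hx2, Commute, SemiconjBy, ← S.x_add, ← S.x_add, add_comm])
    rw [← sq, this.mul_pow, sq, sq, hx1, hx1, one_mul])
    (by rw [QuotientGroup.mk_mul, hx2, hx2, hx2, S.x_add])
  have hy : ∀ a, ((u * x a * u⁻¹ : G) : G ⧸ center G) = S.y a := fun a => by
    rw [h1, ← hx2]; rfl
  let S' : SL2Sys F G := ⟨x, fun a => u * x a * u⁻¹, xadd, fun a b => by rw [xadd, conj_mul],
    fun a b ha => H.lift_unique (by rw [conj_mul, hx1, mul_one, mul_inv_cancel])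
      (by rw [conj_mul, hx1]; simp) (by
      rw [hy, ← S.conj a b ha, ← hy, ← hx2, ← hx2]; rfl)⟩
  let π := QuotientGroup.mk' (center G)
  have hψ : π.comp S'.fromSL2 = S.fromSL2 := MonoidHom.eq_of_eqOn_dense sl2Std_closure (by
    rintro _ (⟨a, rfl⟩ | ⟨a, rfl⟩)
    · rw [MonoidHom.comp_apply, S'.fromSL2_x, S.fromSL2_x]; exact hx2 a
    · rw [MonoidHom.comp_apply, S'.fromSL2_y, S.fromSL2_y]; exact hy a)
  have hψ' : ∀ g, π (S'.fromSL2 g) = S.fromSL2 g := fun g => DFunLike.congr_fun hψ g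
  have hw : ∀ a, S.fromSL2 ((sl2Std F).w a) = S.w a := fun a => by
    simp [SL2Sys.w, S.fromSL2_x, S.fromSL2_y]
  have hi : ∀ g, S.fromSL2 g = 1 → g = 1 := fun g hg => by
    rcases (sl2Std F).normal_form (g := g) (by rw [sl2Std_closure]; trivial) with
      ⟨s, a, hs, rfl⟩ | ⟨s, a, b, hs, rfl⟩
    · rw [map_mul, S.fromSL2_x, SL2Sys.h, map_mul, hw, hw, ← SL2Sys.h] at hg
      have e := S.h_x hs 1
      rw [eq_inv_of_mul_eq_one_left hg, ← S.x_neg, ← S.x_neg, ← S.x_add, ← S.x_add] at e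
      have e1 : s ^ 2 = 1 := by linear_combination -h3 e
      obtain rfl : s = 1 := by
        rcases sq_eq_one_iff.1 e1 with h | h
        · exact h
        · rw [h, CharTwo.neg_eq]
      rw [S.h_one, one_mul, ← S.x_zero] at hg
      rw [h3 hg, SL2Sys.h_one, SL2Sys.x_zero, one_mul]
    · rw [map_mul, map_mul, S.fromSL2_x, S.fromSL2_x, hw, SL2Sys.w] at hg
      have c : ∀ a, Commute (t : G ⧸ center G) (S.x a) := fun a => (h2 _).2 ⟨a, rfl⟩
      have e : S.y (-s⁻¹) = (S.x a * S.x s)⁻¹ * (S.x s * S.x b)⁻¹ := by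
        calc _ = (S.x a * S.x s)⁻¹ * (S.x a * (S.x s * S.y (-s⁻¹) * S.x s) * S.x b) *
              (S.x s * S.x b)⁻¹ := by group
          _ = _ := by rw [hg, mul_one]
      have := X.cc (c (-s⁻¹)) (by
        rw [← h1, e]
        exact ((c _).mul_right (c _)).inv_right.mul_right ((c _).mul_right (c _)).inv_right)
      rw [← S.x_zero] at this
      exact absurd (h3 this) (by simpa using hs)
  refine ⟨F, inferInstance, inferInstance, inferInstance, ⟨(MulEquiv.ofBijective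
    (S'.fromSL2.noncommCoprod (center G).subtype fun g z => mem_center_iff.1 z.2 _) ⟨?_, ?_⟩).symm⟩⟩
  · rw [injective_iff_map_eq_one]
    rintro ⟨g, z⟩ h
    replace h : S'.fromSL2 g * (center G).subtype z = 1 := h
    have h5 := congrArg π h
    rw [map_mul, hψ', map_one, show π ((center G).subtype z) = 1 from
      (QuotientGroup.eq_one_iff _).2 z.2, mul_one] at h5
    obtain rfl := hi g h5
    rw [map_one, one_mul] at h
    exact Prod.ext rfl (Subtype.ext h)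
  · intro g
    obtain ⟨y, hy⟩ : π g ∈ S.fromSL2.range := by
      refine SetLike.le_def.1 ?_ (mem_top _)
      rw [← h4, closure_le]
      rintro _ (⟨a, rfl⟩ | ⟨a, rfl⟩)
      · exact ⟨_, S.fromSL2_x a⟩
      · exact ⟨_, S.fromSL2_y a⟩
    rw [← hψ'] at hy
    exact ⟨(y, ⟨_, QuotientGroup.eq.1 hy⟩), mul_inv_cancel_left _ _⟩

end Cfsg.Agent.AbInv
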