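import Mathlib

/-! Groups in which the centralizer of every involution is abelian: elementary facts. -/

set_option autoImplicit false
set_option linter.unusedSectionVars false

namespace Cfsg.Agent.AbInv

open Subgroup

variable {G : Type*} [Group G]

/-- involutions -/
def Inv (t : G) : Prop := t * t = 1 ∧ t ≠ 1

theorem Inv.inv {t : G} (h : Inv t) : t⁻¹ = t := inv_eq_of_mul_eq_one_right h.1

theorem Inv.conj {t : G} (h : Inv t) (g : G) : Inv (g * t * g⁻¹) :=
  ⟨by rw [conj_mul, h.1]; simp, by simpa [mul_inv_eq_iff_eq_mul] using h.2⟩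

theorem inv_iff {t : G} : Inv t ↔ orderOf t = 2 := by
  refine ⟨fun h => orderOf_eq_prime (by rw [sq, h.1]) h.2, fun h => ⟨?_, ?_⟩⟩
  · rw [← sq, ← h, pow_orderOf_eq_one]
  · rintro rfl; simp at h

theorem conj_comm {a b : G} (h : Commute a b) (g : G) : Commute (g * a * g⁻¹) (g * b * g⁻¹) := by
  simpa using h.map (MulAut.conj g)

variable (G) in
/-- centralizers of involutions are abelian -/
def Ab : Prop := ∀ t a b : G, Inv t → Commute t a → Commute t b → Commute a b

theorem exists_inv_pow {x : G} (h : Even (orderOf x)) (h0 : orderOf x ≠ 0) : ∃ k, Inv (x ^ k) := by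
  obtain ⟨k, hk⟩ := h
  refine ⟨k, by rw [← pow_add, ← hk, pow_orderOf_eq_one], pow_ne_one_of_lt_orderOf ?_ ?_⟩ <;> omega

theorem mem_of_odd {H : Subgroup G} (h : Odd H.index) {w : G} (h1 : w ∈ normalizer (H : Set G))
    (h2 : w * w ∈ H) : w ∈ H := by
  have h3 : Odd (H.subgroupOf (normalizer (H : Set G))).index :=
    Odd.of_dvd_nat h (relIndex_dvd_index_of_le le_normalizer)
  have h4 := (H.subgroupOf (normalizer (H : Set G))).pow_index_mem ⟨w, h1⟩
  obtain ⟨k, hk⟩ := h3
  rw [hk, mem_subgroupOf, coe_pow, pow_succ, pow_mul, sq] at h4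
  exact (H.mul_mem_cancel_left (pow_mem h2 k)).1 h4

namespace Ab
variable (A : Ab G)
include A

theorem trans {s t a : G} (hs : Inv s) (h : Commute s t) (ha : Commute s a) : Commute t a :=
  A s t a hs h ha

/-- the normalizer of the centralizer of an involution -/
def N {t : G} (ht : Inv t) : Subgroup G where
  carrier := {g | Commute t (g * t * g⁻¹)}
  one_mem' := by simp
  mul_mem' {g h} hg hh := by
    have := A.trans (ht.conj g) (Commute.symm hg) (conj_comm hh g)
    simpa [mul_assoc] using this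
  inv_mem' {g} hg := by simpa [mul_assoc] using (conj_comm hg g⁻¹).symm

theorem mem_N {t : G} (ht : Inv t) {g : G} : g ∈ A.N ht ↔ Commute t (g * t * g⁻¹) := Iff.rfl

theorem conj_N {t : G} {ht : Inv t} {g c : G} (hg : g ∈ A.N ht) (hc : Commute t c) :
    Commute t (g * c * g⁻¹) := A.trans (ht.conj g) (Commute.symm hg) (conj_comm hc g)

theorem mem_N_of {t : G} (ht : Inv t) {c : G} (hc : Commute t c) : c ∈ A.N ht := by
  rw [mem_N, ← hc.eq, mul_inv_cancel_right]

variable [Finite G]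

theorem sylow_comm (P : Sylow 2 G) {a b : G} (ha : a ∈ P) (hb : b ∈ P) : Commute a b := by
  by_cases h1 : a = 1
  · rw [h1]; exact Commute.one_left _
  have : Nontrivial P := ⟨⟨a, ha⟩, 1, fun e => h1 (congrArg Subtype.val e)⟩
  have := P.isPGroup'.center_nontrivial
  obtain ⟨z, hz⟩ := exists_ne (1 : center P)
  obtain ⟨k, hk⟩ := (IsPGroup.iff_orderOf.1 P.isPGroup') z.1
  have h2 : k ≠ 0 := by
    rintro rfl
    exact hz (Subtype.ext (orderOf_eq_one_iff.1 hk))
  obtain ⟨j, hj⟩ := exists_inv_pow (x := (z.1 : G)) (by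
    rw [orderOf_coe, hk]; exact (Nat.even_pow.2 ⟨even_two, h2⟩)) (orderOf_pos _).ne'
  have key : ∀ x ∈ P, Commute ((z.1 : G) ^ j) x := fun x hx =>
    Commute.pow_left (congrArg Subtype.val (mem_center_iff.1 z.2 ⟨x, hx⟩)).symm j
  exact A _ _ _ hj (key a ha) (key b hb)

theorem odd_index {t : G} (ht : Inv t) {H : Subgroup G} (h : ∀ c, Commute t c → c ∈ H) :
    Odd H.index := by
  have h1 : IsPGroup 2 (zpowers t) := IsPGroup.of_card (n := 1) (by
    rw [Nat.card_zpowers, inv_iff.1 ht]; rfl)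
  obtain ⟨P, hP⟩ := h1.exists_le_sylow
  have h2 : (P : Subgroup G) ≤ H := fun x hx => h x (A.sylow_comm P (hP (mem_zpowers t)) hx)
  exact Odd.of_dvd_nat (Nat.not_even_iff_odd.1 fun e => P.not_dvd_index e.two_dvd)
    (index_dvd_of_le h2)

theorem comm_of_mem_N {t : G} {ht : Inv t} {w : G} (hw : w ∈ A.N ht) (h : Commute t (w * w)) :
    Commute t w := by
  refine (mem_centralizer_singleton_iff.1 (mem_of_odd (H := centralizer {t})
    (A.odd_index ht fun c hc => mem_centralizer_singleton_iff.2 hc.symm) ?_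
    (mem_centralizer_singleton_iff.2 h.symm))).symm
  refine mem_normalizer_iff.2 fun c => ?_
  simp only [mem_centralizer_singleton_iff]
  refine ⟨fun hc => (A.conj_N hw (Commute.symm hc)).symm, fun hc => ?_⟩
  have := (A.conj_N (inv_mem hw) (Commute.symm hc)).symm
  simpa [mul_assoc] using this.eq

theorem comm_of_inv_mem_N {t : G} {ht : Inv t} {w : G} (hw : w ∈ A.N ht) (h : w * w = 1) :
    Commute t w := A.comm_of_mem_N hw (by rw [h]; exact Commute.one_right _)

theorem eq_one_of_inverted {t w c : G} (ht : Inv t) (hw : w * w = 1) (h : ¬ Commute t w)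
    (hc : Commute t c) (e : w * c * w⁻¹ = c⁻¹) : c = 1 := by
  by_contra h1
  have h2 : w ∈ centralizer {c} := by
    refine mem_of_odd (A.odd_index ht fun x hx => mem_centralizer_singleton_iff.2
      (A _ _ _ ht hx hc)) (mem_normalizer_iff.2 fun x => ?_) (by rw [hw]; exact one_mem _)
    simp only [mem_centralizer_singleton_iff]
    refine ⟨fun hx => ?_, fun hx => ?_⟩
    · have := conj_comm (a := x) (b := c) hx w
      rw [e] at this
      exact (Commute.inv_right_iff.1 this).eq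
    · have := conj_comm (Commute.inv_right (a := w * x * w⁻¹) (b := c) hx) w⁻¹
      rw [← e] at this
      simpa [mul_assoc] using this.eq
  have h3 : Commute w c := mem_centralizer_singleton_iff.1 h2
  rw [h3.eq, mul_inv_cancel_right] at e
  exact h (A.trans ⟨by nth_rewrite 1 [e]; simp, h1⟩ hc.symm h3.symm)

theorem exists_conj {s v : G} (hs : Inv s) (hv : Inv v) (h : ¬ Commute s v) :
    ∃ w, w * w = 1 ∧ w * s * w⁻¹ = v := by
  have e1 : s * (s * v) * s⁻¹ = (s * v)⁻¹ := by
    rw [← mul_assoc, hs.1, one_mul, mul_inv_rev, hs.inv, hv.inv]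
  have e2 : ∀ k : ℕ, s * (s * v) ^ k * s⁻¹ = ((s * v) ^ k)⁻¹ := fun k => by
    rw [← conj_pow, e1, inv_pow]
  rcases Nat.even_or_odd (orderOf (s * v)) with h1 | ⟨k, hk⟩
  · obtain ⟨k, hk⟩ := exists_inv_pow h1 (orderOf_pos _).ne'
    have h2 : Commute ((s * v) ^ k) s := by
      have := e2 k
      rw [hk.inv, mul_inv_eq_iff_eq_mul] at this
      exact this.symm
    have h3 := A.trans hk h2 ((Commute.refl (s * v)).pow_left k)
    have := (Commute.refl s).mul_right h3
    rw [← mul_assoc, hs.1, one_mul] at this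
    exact absurd this h
  · refine ⟨(s * v) ^ k * s, ?_, ?_⟩
    · have := e2 k
      rw [hs.inv] at this
      rw [mul_assoc, ← mul_assoc s, this, mul_inv_cancel]
    · have h1 := pow_orderOf_eq_one (s * v)
      have := e2 k
      rw [mul_inv_eq_iff_eq_mul] at this
      have h2 : s * ((s * v) ^ k)⁻¹ = (s * v) ^ k * s := by
        rw [mul_inv_eq_iff_eq_mul, mul_assoc, this, mul_inv_cancel_left]
      rw [hk, pow_succ, two_mul, pow_add] at h1
      calc _ = (s * v) ^ k * (s * ((s * v) ^ k)⁻¹) := by group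
        _ = (s * v) ^ k * (s * v) ^ k * (s * v) * v⁻¹ := by rw [h2]; group
        _ = v := by rw [h1, one_mul, hv.inv]

theorem exists_coset {t : G} {ht : Inv t} {g : G} (hg : g ∉ A.N ht) :
    ∃ c, Commute t c ∧ g * c * (g * c) = 1 := by
  obtain ⟨w, h1, h2⟩ := A.exists_conj ht (ht.conj g) hg
  refine ⟨g⁻¹ * w, ?_, by simpa using h1⟩
  rw [Commute, SemiconjBy]
  calc t * (g⁻¹ * w) = g⁻¹ * (g * t * g⁻¹) * w := by group
    _ = _ := by rw [← h2]; group

theorem not_mem_N {t u : G} {ht : Inv t} (hu : u * u = 1) (h : ¬ Commute t u) : u ∉ A.N ht :=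
  fun e => h (A.comm_of_inv_mem_N e hu)

theorem exists_inverted {t u : G} {ht : Inv t} (hu : u * u = 1) (h : ¬ Commute t u) {n : G}
    (hn : n ∈ A.N ht) : ∃ c, Commute t c ∧ u * (n * c) * u⁻¹ = (n * c)⁻¹ := by
  obtain ⟨c, h1, h2⟩ := A.exists_coset (ht := ht) (g := u * n) fun e =>
    A.not_mem_N hu h ((mul_mem_cancel_right hn).1 e)
  refine ⟨c, h1, eq_inv_of_mul_eq_one_left ?_⟩
  rw [inv_eq_of_mul_eq_one_right hu, ← h2]; group

end Ab

variable (G) in
/-- the hypotheses of the generic case -/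
structure Hyp : Prop where
  ab : Ab G
  four : ∃ s t : G, Inv s ∧ Inv t ∧ s ≠ t ∧ Commute s t
  non : ∃ s t : G, Inv s ∧ Inv t ∧ ¬ Commute s t

namespace Hyp
variable [Finite G] (H : Hyp G)
include H

theorem exists_non {t : G} (ht : Inv t) : ∃ u, Inv u ∧ ¬ Commute t u := by
  by_contra h
  push Not at h
  obtain ⟨s, v, h1, h2, h3⟩ := H.non
  exact h3 (H.ab _ _ _ ht (h s h1) (h v h2))

theorem conj {s t : G} (hs : Inv s) (ht : Inv t) : ∃ g, g * s * g⁻¹ = t := by
  by_cases h : Commute s t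
  · obtain ⟨u, h1, h2⟩ := H.exists_non hs
    obtain ⟨w, -, e1⟩ := H.ab.exists_conj hs h1 h2
    obtain ⟨w', -, e2⟩ := H.ab.exists_conj h1 ht fun e => h2 (H.ab.trans ht h.symm e.symm)
    exact ⟨w' * w, by rw [← e2, ← e1]; group⟩
  · obtain ⟨w, -, e1⟩ := H.ab.exists_conj hs ht h
    exact ⟨w, e1⟩

theorem exists_second {t : G} (ht : Inv t) : ∃ s, Inv s ∧ s ≠ t ∧ Commute t s := by
  obtain ⟨a, b, h1, h2, h3, h4⟩ := H.four
  obtain ⟨g, rfl⟩ := H.conj h1 ht
  exact ⟨_, h2.conj g, by simpa using h3.symm, conj_comm h4 g⟩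

end Hyp

end Cfsg.Agent.AbInv
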