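import Mathlib

/-! The functional equations of a doubly transitive group with abelian root groups. -/

set_option autoImplicit false
set_option linter.unusedSectionVars false

namespace Cfsg.Agent.AbInv

variable {M K R : Type*} [AddCommGroup M] [CommGroup K] [CommRing R] [Module R M]

/-- `T c f κ g` abstracts the relation `u c u = f κ u g`. -/
structure Mouf (φ : K →* R) (T : M → M → K → M → Prop) (t₀ : M) : Prop where
  fpf : ∀ κ (a : M), φ κ • a = a → κ = 1 ∨ a = 0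
  sq : ∀ κ : K, κ ^ 2 = 1 → κ = 1
  sqrt : ∀ κ : K, ∃ μ, μ ^ 2 = κ
  ex : ∀ c, c ≠ 0 → ∃ f κ g, T c f κ g
  uniq : ∀ {c f κ g f' κ' g'}, T c f κ g → T c f' κ' g' → f = f' ∧ κ = κ' ∧ g = g'
  ne : ∀ {c f κ g}, T c f κ g → c ≠ 0
  scale : ∀ {c f κ g} (μ : K), T c f κ g → T (φ μ • c) (φ μ⁻¹ • f) (μ⁻¹ ^ 2 * κ) (φ μ⁻¹ • g)
  neg : ∀ {c f κ g}, T c f κ g → T (-c) (-g) κ (-f)
  inv : ∀ {c f κ g}, T c f κ g → T f c κ⁻¹ (-(φ κ⁻¹ • g))
  add : ∀ {a f κ g b f' κ' g' f'' κ'' g''}, T a f κ g → T b f' κ' g' → T (g + f') f'' κ'' g'' →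
    T (a + b) (f + φ κ • f'') (κ * κ' * κ'') (φ κ' • g'' + g')
  ne0 : t₀ ≠ 0
  two : t₀ + t₀ = 0
  trans : ∀ e, e ≠ 0 → e + e = 0 → ∃ κ, e = φ κ • t₀
  nontriv : ∃ l : K, l ≠ 1

namespace Mouf

variable {φ : K →* R} {T : M → M → K → M → Prop} {t₀ : M} (H : Mouf φ T t₀)
include H

omit H in
theorem inv_mul (κ : K) : φ κ⁻¹ * φ κ = 1 := by rw [← map_mul, inv_mul_cancel, map_one]

theorem cancel {κ μ : K} {a : M} (h : κ ≠ μ) (e : (φ κ - φ μ) • a = 0) : a = 0 := by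
  refine (H.fpf (μ⁻¹ * κ) a ?_).resolve_left fun e' => h (inv_mul_eq_one.1 e').symm
  rw [map_mul]
  linear_combination (norm := module) φ μ⁻¹ • e + inv_mul (φ := φ) μ • a

theorem cast {c f g c' f' g' : M} {κ κ' : K} (h : T c f κ g) (e1 : c = c') (e2 : f = f')
    (e3 : κ = κ') (e4 : g = g') : T c' f' κ' g' := by subst e1 e2 e3 e4; exact h

theorem normalise {c f g : M} {κ : K} (h : T c f κ g) :
    ∃ μ, μ ^ 2 = κ ∧ T (φ μ • c) (φ μ⁻¹ • f) 1 (φ μ⁻¹ • g) := by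
  obtain ⟨μ, rfl⟩ := H.sqrt κ
  exact ⟨μ, rfl, H.cast (H.scale μ h) rfl rfl (by simp) rfl⟩

theorem exists_base : ∃ t a, Mouf φ T t ∧ T t a 1 (-a) := by
  obtain ⟨f, κ, g, h⟩ := H.ex t₀ H.ne0
  obtain ⟨μ, -, h1⟩ := H.normalise h
  have h2 : φ μ • t₀ + φ μ • t₀ = 0 := by rw [← smul_add, H.two, smul_zero]
  refine ⟨φ μ • t₀, φ μ⁻¹ • f, { H with ne0 := H.ne h1, two := h2, trans := ?_ }, ?_⟩
  · intro e h3 h4
    obtain ⟨κ, rfl⟩ := H.trans e h3 h4
    exact ⟨κ * μ⁻¹, by rw [smul_smul, ← map_mul, inv_mul_cancel_right]⟩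
  · have := H.neg h1
    rw [neg_eq_of_add_eq_zero_left h2] at this
    exact H.cast h1 rfl rfl rfl (H.uniq h1 this).2.2

section base
variable {a : M} (ha : T t₀ a 1 (-a))
include ha

theorem step1 {l n : K} (h : t₀ + φ l • t₀ = φ n • t₀) :
    ∃ κ g, T (φ l • a - a) (-a + (φ l * φ n⁻¹) • a) κ g := by
  have h1 : T a t₀ 1 a := H.cast (H.inv ha) rfl rfl inv_one (by simp)
  have h3 := H.scale (l⁻¹ * n) ha
  have := H.add (H.neg h1) (H.scale l h1) (H.cast h3 (by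
    rw [map_mul]
    linear_combination (norm := module) -φ l⁻¹ • h + inv_mul (φ := φ) l • t₀ + H.two) rfl rfl rfl)
  exact ⟨_, _, H.cast this (by abel) (by simp [mul_comm]) rfl rfl⟩

theorem step2 {l n : K} (hl : l ≠ 1) (h : t₀ + φ l • t₀ = φ n • t₀) :
    (φ l ^ 2 + φ l + 1 - (φ l + 1) * φ n) • (a + a) = 0 := by
  have h1 : T a t₀ 1 a := H.cast (H.inv ha) rfl rfl inv_one (by simp)
  obtain ⟨κ, g, h2⟩ := H.step1 ha h
  obtain ⟨κ', g', h3⟩ := H.step1 ha (l := l⁻¹) (n := l⁻¹ * n) (by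
    rw [map_mul]
    linear_combination (norm := module) φ l⁻¹ • h - inv_mul (φ := φ) l • t₀)
  have h4 := H.add (H.scale l h1) (H.neg h1) (H.cast h3 (sub_eq_add_neg _ _) rfl rfl rfl)
  have h5 := (H.uniq h2 (H.cast h4 (sub_eq_add_neg _ _).symm rfl rfl rfl)).1
  simp only [mul_inv_rev, inv_inv, map_mul, map_pow, mul_one] at h5
  refine H.cancel hl ?_
  have i1 := inv_mul (φ := φ) l
  have i2 := inv_mul (φ := φ) n
  rw [map_one]
  linear_combination (norm := module) (2 * φ l ^ 2 * φ n) • h5 + (φ l ^ 2 * φ n * φ l⁻¹) • H.two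
    + (-(φ l ^ 3) + 1) • i2 • (a + a)
    + (φ n * (φ l * φ l⁻¹ + 1) * (φ n⁻¹ - 1) + φ n * φ n⁻¹ * (φ l * φ l⁻¹) ^ 2) • i1 • (a + a)

theorem step3 {l n : K} (hl : l ≠ 1) (h : t₀ + φ l • t₀ = φ n • t₀) :
    (φ l + φ n + 2) • (a + a) = 0 := by
  have hn : n ≠ 1 := by
    rintro rfl
    rw [map_one, one_smul, add_eq_left] at h
    exact H.ne (H.scale l ha) h
  have hln : l ≠ n := by
    rintro rfl
    exact H.ne0 (add_eq_right.1 h)
  have h1 := H.step2 ha hl h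
  have h2 := H.step2 ha hn (n := l) (by linear_combination (norm := module) H.two - h)
  exact H.cancel hln (by linear_combination (norm := module) h1 - h2)

theorem base_eq : a = t₀ := by
  have h1 : T a t₀ 1 a := H.cast (H.inv ha) rfl rfl inv_one (by simp)
  obtain ⟨l, hl⟩ := H.nontriv
  obtain ⟨n, h⟩ := H.trans (t₀ + φ l • t₀) (fun e => H.ne0 (H.cancel hl (by
      rw [map_one]; linear_combination (norm := module) e - H.two)))
    (by linear_combination (norm := module) (1 + φ l) • H.two)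
  have h2 := H.step3 ha hl h
  have h3 := H.step3 ha (l := l⁻¹) (n := l⁻¹ * n) (inv_ne_one.2 hl) (by
    rw [map_mul]
    linear_combination (norm := module) φ l⁻¹ • h - inv_mul (φ := φ) l • t₀)
  rw [map_mul] at h3
  have h4 : a + a = 0 := H.cancel hl (by
    rw [map_one]
    linear_combination (norm := module) φ l • h3 - h2 - (1 + φ n) • inv_mul (φ := φ) l • (a + a))
  obtain ⟨κ, rfl⟩ := H.trans a (H.ne h1) h4
  have := (H.uniq h1 (H.scale κ ha)).2.1
  rw [mul_one] at this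
  rw [inv_eq_one.1 (H.sq _ this.symm), map_one, one_smul]

end base

section main
variable (ht : T t₀ t₀ 1 t₀)
include ht

theorem two_of {c f g : M} {κ : K} (h : T c f κ g) (hc : c + c = 0) : f + f = 0 ∧ g + g = 0 := by
  obtain ⟨l, rfl⟩ := H.trans c (H.ne h) hc
  obtain ⟨rfl, -, rfl⟩ := H.uniq h (H.scale l ht)
  have : φ l⁻¹ • t₀ + φ l⁻¹ • t₀ = 0 := by rw [← smul_add, H.two, smul_zero]
  exact ⟨this, this⟩

theorem two_f {c f g : M} {κ : K} (h : T c f κ g) (hc : c + c ≠ 0) : f + f ≠ 0 :=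
  fun e => hc (H.two_of ht (H.inv h) e).1

theorem two_g {c f g : M} {κ : K} (h : T c f κ g) (hc : c + c ≠ 0) : g + g ≠ 0 := fun e =>
  H.two_f ht (H.neg h) (fun e' => hc (by linear_combination (norm := module) -e'))
    (by linear_combination (norm := module) -e)

omit ht in
theorem add_ne {c : M} (hc : c + c ≠ 0) (l : K) :
    (c + φ l • t₀) + (c + φ l • t₀) ≠ 0 ∧ c + φ l • t₀ ≠ 0 := by
  have : (c + φ l • t₀) + (c + φ l • t₀) ≠ 0 := fun e =>
    hc (by linear_combination (norm := module) e - φ l • H.two)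
  exact ⟨this, fun e => this (by rw [e, add_zero])⟩

theorem f_ne_g {c f g : M} (h : T c f 1 g) (hc : c + c ≠ 0) : f ≠ g := by
  rintro rfl
  have hf := H.two_f ht h hc
  obtain ⟨P, κ, Q, h1⟩ := H.ex (f + t₀) (by simpa using (H.add_ne hf 1).2)
  have h2 := H.add h ht h1
  have h3 := H.add ht h (H.cast h1 (add_comm _ _) rfl rfl rfl)
  have := (H.uniq h2 (H.cast h3 (add_comm _ _) rfl rfl rfl)).1
  exact hf (by rw [add_right_cancel this, H.two])

theorem ntype_aux {c f g B B' : M} {β : K} (h : T c f 1 g) (hc : c + c ≠ 0)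
    (hB : T (f - g) B β B') : B + B' = f + f - c := by
  have hf : T f c 1 (-g) := H.cast (H.inv h) rfl rfl inv_one (by simp)
  have hg : T g (-f) 1 c := by
    have := H.neg (H.inv (H.neg h))
    exact H.cast this (neg_neg _) (by simp) inv_one (neg_neg _)
  obtain ⟨A, α, A', hA⟩ := H.ex (g + c) fun e =>
    H.f_ne_g ht hf (H.two_f ht h hc) (by linear_combination (norm := module) e)
  have e1 := H.add h hf hA
  have e2 := H.add hf h (H.cast hB (by abel) rfl rfl rfl)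
  have e3 := H.add h hg (H.cast (H.neg hB) (by abel) rfl rfl rfl)
  have k1 := (H.uniq e1 (H.cast e2 (add_comm _ _) rfl rfl rfl)).1
  have k2 := (H.uniq hA (H.cast e3 (add_comm _ _) rfl rfl rfl)).1
  rw [map_one, one_smul] at k2
  rw [map_one, one_smul, one_smul] at k1
  linear_combination (norm := module) k2 - k1

theorem ntype {c f g : M} {κ : K} (h : T c f κ g) (hc : c + c ≠ 0) :
    (f + g) + (f + g) = φ κ • (c + c) := by
  obtain ⟨μ, rfl, h1⟩ := H.normalise h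
  have hc' : φ μ • c + φ μ • c ≠ 0 := fun e => hc (by
    linear_combination (norm := module) φ μ⁻¹ • e - inv_mul (φ := φ) μ • (c + c))
  obtain ⟨B, β, B', hB⟩ := H.ex _ (sub_ne_zero.2 (H.f_ne_g ht h1 hc'))
  have e1 := H.ntype_aux ht h1 hc' hB
  have e2 := H.ntype_aux ht (H.neg h1) (fun e => hc' (by linear_combination (norm := module) -e))
    (H.cast hB (by abel) rfl rfl rfl)
  rw [map_pow]
  linear_combination (norm := module) φ μ • (e2 - e1) - inv_mul (φ := φ) μ • (f + g + (f + g))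

theorem k_add {c f g : M} (h : T c f 1 g) (hc : c + c ≠ 0) (l : K) {P P' : M} {κ : K}
    (hP : T (f + φ l⁻¹ • t₀) P κ P') :
    l⁻¹ ^ 2 * κ = 1 ∧ ∃ X X', T (c + φ l • t₀) X (l⁻¹ ^ 2 * κ) X' := by
  have hf := H.two_f ht h hc
  have hg := H.two_g ht h hc
  obtain ⟨Q, κ', Q', hQ⟩ := H.ex _ (H.add_ne hg l⁻¹).2
  have e1 := H.add h (H.scale l ht) hQ
  have e2 := H.add (H.scale l ht) h (H.cast hP (add_comm _ _) rfl rfl rfl)
  obtain ⟨k1, k2, k3⟩ := H.uniq e1 (H.cast e2 (add_comm _ _) rfl rfl rfl)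
  simp only [one_mul, mul_one, mul_right_inj] at k2
  subst k2
  simp only [one_mul, mul_one, map_one, one_smul, map_pow] at k1 k3 e1
  refine ⟨?_, _, _, e1⟩
  have n1 := H.ntype ht hP (H.add_ne hf l⁻¹).1
  have n2 := H.ntype ht hQ (H.add_ne hg l⁻¹).1
  have n3 := H.ntype ht e1 (H.add_ne hc l).1
  have n4 := H.ntype ht h hc
  simp only [map_one, one_smul, map_pow, map_mul] at n3 n4
  have i1 := inv_mul (φ := φ) l
  set m := φ l⁻¹
  set k := φ κ'
  have n5 : (m ^ 2 * ((1 - m ^ 2))) • (Q' + Q') = (m ^ 2 * (k - 1)) • (g + g) := by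
    linear_combination (norm := module) n3 - (2 : R) • k1 - m ^ 2 • n1 - (2 * m ^ 2) • k3
      - (m ^ 2 * k) • n4 + (m ^ 2 * k * φ l - 2 * m - m ^ 3 * k + m ^ 3) • H.two
  have n6 : (1 - m ^ 2) • (Q' + Q') = (k - 1) • (g + g) := by
    linear_combination (norm := module) φ l ^ 2 • n5
      - (m * φ l + 1) • i1 • ((1 - m ^ 2) • (Q' + Q') - (k - 1) • (g + g))
  refine (H.fpf _ (c + c) ?_).resolve_right hc
  rw [map_mul, map_pow]
  linear_combination (norm := module) n2 - n3 - n6 + n4 + (m + k * m - m ^ 2 * k * φ l) • H.two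

theorem two_eq_zero (c : M) : c + c = 0 := by
  by_contra hc
  obtain ⟨f, κ, g, h⟩ := H.ex c fun e => hc (by rw [e, add_zero])
  obtain ⟨μ, -, h1⟩ := H.normalise h
  have hc' : φ μ • c + φ μ • c ≠ 0 := fun e => hc (by
    linear_combination (norm := module) φ μ⁻¹ • e - inv_mul (φ := φ) μ • (c + c))
  have hf := H.two_f ht h1 hc'
  obtain ⟨l, hl⟩ := H.nontriv
  obtain ⟨P, κ, P', hP⟩ := H.ex _ (H.add_ne hf l⁻¹).2
  obtain ⟨e1, X, X', hX⟩ := H.k_add ht h1 hc' l hP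
  obtain ⟨e2, Y, Y', hY⟩ := H.k_add ht (H.cast (H.inv h1) rfl rfl inv_one rfl) hf l⁻¹
    (H.cast hX (by rw [inv_inv]) rfl rfl rfl)
  rw [e1, inv_inv, mul_one] at e2
  exact hl (H.sq _ e2)

end main

theorem main : (∀ c : M, c + c = 0) ∧ ∃ t, Mouf φ T t ∧ T t t 1 t := by
  obtain ⟨t, a, H', h⟩ := H.exists_base
  obtain rfl := H'.base_eq h
  rw [neg_eq_of_add_eq_zero_left H'.two] at h
  exact ⟨H'.two_eq_zero h, _, H', h⟩

theorem exists_field [Finite M] (h2 : ∀ c : M, c + c = 0) :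
    ∃ (F : Type) (_ : Field F) (e : F ≃+ M) (ψ : K →* F), e 1 = t₀ ∧
      (∀ κ a, e (ψ κ * a) = φ κ • e a) ∧ ∀ a, a ≠ 0 → ∃ κ, a = ψ κ := by
  let π := LinearMap.toSpanSingleton R M t₀
  have hπ : ∀ r, π r = r • t₀ := fun r => rfl
  have hs : Function.Surjective π := fun a => by
    by_cases h : a = 0
    · exact ⟨0, by rw [h, map_zero]⟩
    · obtain ⟨κ, rfl⟩ := H.trans a h (h2 a)
      exact ⟨_, rfl⟩
  let I : Ideal R := LinearMap.ker π
  have hI : I.IsMaximal := by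
    refine Ideal.isMaximal_iff.2 ⟨fun h => H.ne0 (by simpa [I, hπ] using h), fun J x h1 h3 h4 => ?_⟩
    obtain ⟨κ, hκ⟩ := H.trans (π x) h3 (h2 _)
    have : 1 - φ κ⁻¹ * x ∈ I := by
      rw [LinearMap.mem_ker, hπ]
      rw [hπ] at hκ
      linear_combination (norm := module) -φ κ⁻¹ • hκ - inv_mul (φ := φ) κ • t₀
    simpa using J.add_mem (h1 this) (J.mul_mem_left (φ κ⁻¹) h4)
  let _ : Field (R ⧸ I) := Ideal.Quotient.field I
  let e : (R ⧸ I) ≃ₗ[R] M := π.quotKerEquivOfSurjective hs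
  have he : ∀ r, e (Ideal.Quotient.mk I r) = r • t₀ := fun r => rfl
  have : Finite (R ⧸ I) := Finite.of_equiv _ e.symm.toEquiv
  let s := Shrink.ringEquiv.{0} (R ⧸ I)
  refine ⟨Shrink.{0} (R ⧸ I), inferInstance, s.toAddEquiv.trans e.toAddEquiv,
    s.symm.toMonoidHom.comp ((Ideal.Quotient.mk I).toMonoidHom.comp φ), ?_, fun κ a => ?_,
    fun a ha => ?_⟩
  · change e (s 1) = _
    rw [map_one, ← map_one (Ideal.Quotient.mk I), he, one_smul]
  · change e (s (s.symm (Ideal.Quotient.mk I (φ κ)) * a)) = φ κ • e (s a)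
    obtain ⟨r, hr⟩ := Ideal.Quotient.mk_surjective (s a)
    rw [map_mul, s.apply_symm_apply, ← hr, ← map_mul, he, he, mul_smul]
  · obtain ⟨κ, hκ⟩ := H.trans (e (s a)) (by simpa using ha) (h2 _)
    refine ⟨κ, ?_⟩
    change a = s.symm (Ideal.Quotient.mk I (φ κ))
    rw [RingEquiv.eq_symm_apply, ← e.injective.eq_iff, he, hκ]

end Mouf

end Cfsg.Agent.AbInv
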