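import Cfsg.Agent.AbInv.Grp
import Cfsg.Agent.AbInv.Mouf
import Cfsg.Agent.Stein.SL2Pres

/-! The doubly transitive case. -/

set_option autoImplicit false
set_option linter.unusedSectionVars false

namespace Cfsg.Agent.AbInv

open Subgroup Cfsg.Agent.Stein

variable {G : Type*} [Group G] [Finite G]

variable (G) in
/-- centralizers of nontrivial elements of `C(t)` normalize `C(t)` -/
def MH : Prop := ∀ t a g : G, Inv t → a ≠ 1 → Commute t a → Commute a g → Commute t (g * t * g⁻¹)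

/-- the configuration -/
structure Cfg (t u : G) : Prop where
  H : Hyp G
  M : MH G
  ht : Inv t
  hu : Inv u
  non : ¬ Commute t u

namespace Cfg
variable {t u : G} (X : Cfg t u)
include X

/-- the point stabilizer -/
abbrev N : Subgroup G := X.H.ab.N X.ht

theorem u_not_mem : u ∉ X.N := X.H.ab.not_mem_N X.hu.1 X.non

theorem uu (x : G) : u * (u * x * u⁻¹) * u⁻¹ = x := by
  rw [X.hu.inv, ← mul_assoc, ← mul_assoc, X.hu.1, one_mul, mul_assoc, X.hu.1, mul_one]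

theorem cc {y : G} (h1 : Commute t y) (h2 : Commute t (u * y * u⁻¹)) : y = 1 := by
  by_contra h
  have := X.H.ab.eq_one_of_inverted X.ht X.hu.1 X.non (h1.inv_right.mul_right h2) (by
    rw [← conj_mul, X.uu]; group)
  rw [inv_mul_eq_one, eq_mul_inv_iff_mul_eq] at this
  exact X.u_not_mem (X.M t y u X.ht h h1 this)

theorem cn {x : G} (h1 : Commute t x) (h2 : u * x * u⁻¹ ∈ X.N) : x = 1 := by
  have A := X.H.ab
  set y := u * x * u⁻¹ with hy
  have hx : u * y * u⁻¹ = x := X.uu x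
  have hxN : x ∈ X.N := A.mem_N_of X.ht h1
  have c1 : Commute x y := by
    have := X.cc (y := y * x * y⁻¹ * x⁻¹) ((A.conj_N h2 h1).mul_right h1.inv_right) (by
      have e : u * (y * x * y⁻¹ * x⁻¹) * u⁻¹ = x * (y * x⁻¹ * y⁻¹) := by
        rw [← conj_mul, ← conj_mul, ← conj_mul, ← conj_inv, ← conj_inv, hx, ← hy]; group
      rw [e]; exact h1.mul_right (A.conj_N h2 h1.inv_right))
    rw [mul_inv_eq_one, mul_inv_eq_iff_eq_mul] at this
    exact this.symm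
  by_cases hw : x * y = 1
  · exact A.eq_one_of_inverted X.ht X.hu.1 X.non h1 (eq_inv_of_mul_eq_one_right hw)
  have c2 : Commute u (x * y) := by
    rw [Commute, SemiconjBy, ← mul_inv_eq_iff_eq_mul, ← conj_mul, hx, ← hy, c1.eq]
  have c3 := X.M u (x * y) x X.hu hw c2 ((Commute.refl x).mul_left c1.symm)
  have e : x * y⁻¹ = x * u * x⁻¹ * u := by rw [hy, conj_inv, X.hu.inv]; group
  have c4 : x * y⁻¹ * (x * y⁻¹) = 1 := by
    rw [e, ← sq, c3.symm.mul_pow, sq, sq, (X.hu.conj x).1, X.hu.1, one_mul]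
  have c5 := X.cc (A.comm_of_inv_mem_N (mul_mem hxN (inv_mem h2)) c4)
    (A.comm_of_inv_mem_N (ht := X.ht) (by
      rw [← conj_mul, ← conj_inv, hx, ← hy]; exact mul_mem h2 (inv_mem hxN))
      (by rw [conj_mul, c4]; simp))
  rw [mul_inv_eq_one] at c5
  exact X.cc h1 (by rw [← hy, ← c5]; exact h1)

/-- the two point stabilizer -/
def K : Subgroup G := X.N ⊓ X.N.comap (MulAut.conj u).toMonoidHom

theorem mem_K {k : G} : k ∈ X.K ↔ k ∈ X.N ∧ u * k * u⁻¹ ∈ X.N := Iff.rfl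

theorem mem_K_of {k : G} (h1 : k ∈ X.N) (h2 : u * k * u⁻¹ = k⁻¹) : k ∈ X.K :=
  ⟨h1, show u * k * u⁻¹ ∈ X.N from h2 ▸ inv_mem h1⟩

theorem exists_K {n : G} (hn : n ∈ X.N) : ∃ c, Commute t c ∧ n * c ∈ X.K := by
  obtain ⟨c, h1, h2⟩ := X.H.ab.exists_inverted X.hu.1 X.non hn
  exact ⟨c, h1, X.mem_K_of (mul_mem hn (X.H.ab.mem_N_of X.ht h1)) h2⟩

theorem K_inv {k : G} (hk : k ∈ X.K) : u * k * u⁻¹ = k⁻¹ := by
  obtain ⟨c, h1, h2⟩ := X.H.ab.exists_inverted X.hu.1 X.non hk.1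
  have h3 := X.mem_K_of (mul_mem hk.1 (X.H.ab.mem_N_of X.ht h1)) h2
  obtain rfl := X.cn h1 ((mul_mem_cancel_left hk).1 h3).2
  simpa using h2

theorem K_comm {k l : G} (hk : k ∈ X.K) (hl : l ∈ X.K) : Commute k l := by
  have := X.K_inv (mul_mem hk hl)
  rw [← conj_mul, X.K_inv hk, X.K_inv hl, ← mul_inv_rev, inv_inj] at this
  exact this.symm

theorem K_sq {k : G} (hk : k ∈ X.K) (h : Commute t (k * k)) : k = 1 :=
  X.cn (X.H.ab.comm_of_mem_N hk.1 h) hk.2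

theorem cent_inv {k : G} (hk : k ∈ X.K) (h1 : k ≠ 1) {x : G} (hx : Commute k x) :
    u * x * u⁻¹ = x⁻¹ := by
  have h2 : ∀ x, x ∈ centralizer {k} → u * x * u⁻¹ ∈ centralizer {k} := fun x hx => by
    rw [mem_centralizer_singleton_iff] at hx ⊢
    have := conj_comm (a := x) (b := k) hx u
    rw [X.K_inv hk] at this
    exact Commute.inv_right_iff.1 this
  let φ : centralizer {k} →* centralizer {k} :=
    ((MulAut.conj u).toMonoidHom.comp (centralizer {k}).subtype).codRestrict _ fun x => h2 x x.2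
  have h3 : MonoidHom.FixedPointFree φ := fun w hw => by
    by_contra h4
    have c1 : Commute u w := mul_inv_eq_iff_eq_mul.1 (congrArg Subtype.val hw)
    have c2 := X.M u w k X.hu (fun e => h4 (Subtype.ext e)) c1
      (mem_centralizer_singleton_iff.1 w.2)
    have e : k * k = k * u * k⁻¹ * u := by
      nth_rewrite 2 [← inv_inv k]
      rw [← X.K_inv (inv_mem hk), X.hu.inv]; group
    have c3 : k * k * (k * k) = 1 := by
      rw [e, ← sq, c2.symm.mul_pow, sq, sq, (X.hu.conj k).1, X.hu.1, one_mul]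
    exact h1 (X.K_sq hk (by
      rw [X.K_sq (mul_mem hk hk) (by rw [c3]; exact Commute.one_right _)]
      exact Commute.one_right _))
  exact congrArg Subtype.val (congrFun (h3.coe_eq_inv_of_involutive
    fun x => Subtype.ext (X.uu x)) ⟨x, mem_centralizer_singleton_iff.2 hx.symm⟩)

theorem fpf {k : G} (hk : k ∈ X.K) (h1 : k ≠ 1) {c : G} (hc : Commute t c) (h : Commute k c) :
    c = 1 := X.H.ab.eq_one_of_inverted X.ht X.hu.1 X.non hc (X.cent_inv hk h1 h)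

theorem other {v : G} (h1 : v * v = 1) (h2 : v ∉ X.N) : Cfg t v :=
  ⟨X.H, X.M, X.ht, ⟨h1, fun e => h2 (e ▸ one_mem _)⟩, fun e => h2 (X.H.ab.mem_N_of X.ht e)⟩

theorem cent_mem {k : G} (hk : k ∈ X.K) (h1 : k ≠ 1) {x : G} (hx : Commute k x) : x ∈ X.K := by
  refine X.mem_K_of ?_ (X.cent_inv hk h1 hx)
  by_contra h2
  obtain ⟨c, h3, h4⟩ := X.H.ab.exists_coset h2
  have hc := X.H.ab.mem_N_of X.ht h3
  have Y := X.other h4 fun e => h2 ((mul_mem_cancel_right hc).1 e)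
  have e : x * c * (c⁻¹ * k * c) * (x * c)⁻¹ = k := by
    rw [show x * c * (c⁻¹ * k * c) * (x * c)⁻¹ = x * k * x⁻¹ by group, ← hx.eq]; group
  have h5 := Y.K_inv (k := c⁻¹ * k * c) (Y.mem_K.2 ⟨mul_mem (mul_mem (inv_mem hc) (X.mem_K.1 hk).1) hc,
    by rw [e]; exact hk.1⟩)
  rw [e] at h5
  refine h1 (X.K_sq hk ?_)
  have : k * k = k * c⁻¹ * k⁻¹ * c := by nth_rewrite 2 [h5]; group
  rw [this]
  exact (X.H.ab.conj_N hk.1 h3.inv_right).mul_right h3

theorem conj_surj {k : G} (hk : k ∈ X.K) (h1 : k ≠ 1) {c : G} (hc : Commute t c) :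
    ∃ d, Commute t d ∧ k * c = d * k * d⁻¹ := by
  have h2 : ∀ x, x ∈ centralizer {t} → k⁻¹ * x * k⁻¹⁻¹ ∈ centralizer {t} := fun x hx => by
    rw [mem_centralizer_singleton_iff] at hx ⊢
    exact (X.H.ab.conj_N (inv_mem hk.1) (Commute.symm hx)).symm
  let φ : centralizer {t} →* centralizer {t} :=
    ((MulAut.conj k⁻¹).toMonoidHom.comp (centralizer {t}).subtype).codRestrict _ fun x => h2 x x.2
  have h3 : MonoidHom.FixedPointFree φ := fun w hw =>
    Subtype.ext (X.fpf (inv_mem hk) (inv_ne_one.2 h1)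
      (Commute.symm (mem_centralizer_singleton_iff.1 w.2))
      (mul_inv_eq_iff_eq_mul.1 (congrArg Subtype.val hw)))
  obtain ⟨d, hd⟩ := h3.commutatorMap_surjective ⟨c⁻¹, inv_mem
    (mem_centralizer_singleton_iff.2 hc.symm)⟩
  have : (d : G) / (k⁻¹ * d * k⁻¹⁻¹) = c⁻¹ := congrArg Subtype.val hd
  refine ⟨d, Commute.symm (mem_centralizer_singleton_iff.1 d.2), ?_⟩
  rw [← inv_inv c, ← this, div_eq_mul_inv]; group

theorem exists_K_conj {s : G} (hs : Inv s) (h : Commute t s) : ∃ k ∈ X.K, k * t * k⁻¹ = s := by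
  obtain ⟨g, rfl⟩ := X.H.conj X.ht hs
  obtain ⟨c, h1, h2⟩ := X.exists_K (n := g) h
  exact ⟨_, h2, by rw [mul_assoc g, ← h1.eq]; group⟩

theorem exists_K_ne : ∃ k ∈ X.K, k ≠ 1 := by
  obtain ⟨s, h1, h2, h3⟩ := X.H.exists_second X.ht
  obtain ⟨k, h4, rfl⟩ := X.exists_K_conj h1 h3
  exact ⟨k, h4, fun e => h2 (by simp [e])⟩

theorem bruhat {g : G} (hg : g ∉ X.N) :
    ∃ c k d, Commute t c ∧ k ∈ X.K ∧ Commute t d ∧ g = c * k * u * d := by
  obtain ⟨c, h3, h4⟩ := X.H.ab.exists_coset hg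
  have Y := X.other h4 fun e => hg ((mul_mem_cancel_right (X.H.ab.mem_N_of X.ht h3)).1 e)
  obtain ⟨k, hk, h1⟩ := X.exists_K_ne
  obtain ⟨c', h5, h6⟩ := Y.exists_K hk.1
  obtain ⟨d, h7, h8⟩ := X.conj_surj hk h1 h5
  have h9 := Y.K_inv h6
  rw [h8] at h9
  have := X.cent_mem hk h1 (x := d⁻¹ * (g * c) * d * u⁻¹) (by
    rw [Commute, SemiconjBy, eq_comm, ← mul_inv_eq_iff_eq_mul]
    have e := X.K_inv hk
    rw [X.hu.inv] at e
    calc _ = d⁻¹ * (g * c * (d * (u⁻¹ * k * u) * d⁻¹) * (g * c)⁻¹) * d := by group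
      _ = d⁻¹ * (g * c * (d * k * d⁻¹) * (g * c)⁻¹)⁻¹ * d := by rw [X.hu.inv, e]; group
      _ = k := by rw [h9]; group)
  exact ⟨d, _, d⁻¹ * c⁻¹, h7, this, h7.inv_right.mul_right h3.inv_right, by group⟩

theorem uniq {c k d c' k' d' : G} (h1 : Commute t c) (h2 : k ∈ X.K) (h3 : Commute t d)
    (h4 : Commute t c') (h5 : k' ∈ X.K) (h6 : Commute t d') (e : c * k * u * d = c' * k' * u * d') :
    c = c' ∧ k = k' ∧ d = d' := by
  have A := X.H.ab
  have e1 : d = d' := by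
    refine mul_inv_eq_one.1 (X.cn (h3.mul_right h6.inv_right) ?_)
    have : u * (d * d'⁻¹) * u⁻¹ = (c * k)⁻¹ * (c' * k') := by
      calc _ = (c * k)⁻¹ * (c * k * u * d) * d'⁻¹ * u⁻¹ := by group
        _ = _ := by rw [e]; group
    rw [this]
    exact mul_mem (inv_mem (mul_mem (A.mem_N_of X.ht h1) h2.1)) (mul_mem (A.mem_N_of X.ht h4) h5.1)
  rw [e1, mul_left_inj, mul_left_inj] at e
  have e2 : c'⁻¹ * c = k' * k⁻¹ := by
    calc _ = c'⁻¹ * (c * k) * k⁻¹ := by group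
      _ = _ := by rw [e]; group
  have e3 := X.cn (h4.inv_right.mul_right h1) (e2 ▸ (mul_mem h5 (inv_mem h2)).2)
  rw [e3, eq_comm, mul_inv_eq_one] at e2
  exact ⟨(inv_mul_eq_one.1 e3).symm, e2.symm, e1⟩

end Cfg

end Cfsg.Agent.AbInv
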