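import Cfsg.Agent.AbInv.Main

/-! The doubly transitive case: construction of the field. -/

set_option autoImplicit false
set_option linter.unusedSectionVars false

namespace Cfsg.Agent.AbInv

open Subgroup Cfsg.Agent.Stein

variable {G : Type*} [Group G] [Finite G]

namespace Cfg
variable {t u : G} (X : Cfg t u)
include X

theorem sys : ∃ (F : Type) (_ : Field F) (_ : Finite F), CharP F 2 ∧ ∃ S : SL2Sys F G,
    (∀ a, S.y a = u * S.x a * u⁻¹) ∧ (∀ c, Commute t c ↔ ∃ a, S.x a = c) ∧
    Function.Injective S.x ∧ closure (Set.range S.x ∪ Set.range S.y) = ⊤ := by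
  have A := X.H.ab
  have mC : ∀ {c}, c ∈ centralizer {t} ↔ Commute t c :=
    mem_centralizer_singleton_iff.trans ⟨Commute.symm, Commute.symm⟩
  let _ : CommGroup (centralizer {t}) := { (inferInstance : Group (centralizer {t})) with
    mul_comm := fun a b => Subtype.ext (A _ _ _ X.ht (mC.1 a.2) (mC.1 b.2)) }
  let _ : CommGroup X.K := { (inferInstance : Group X.K) with
    mul_comm := fun a b => Subtype.ext (X.K_comm a.2 b.2) }
  let M := Additive (centralizer {t})
  let x : M → G := fun a => (a.toMul : G)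
  have xa : ∀ a b, x (a + b) = x a * x b := fun _ _ => rfl
  have xn : ∀ a, x (-a) = (x a)⁻¹ := fun _ => rfl
  have xi : Function.Injective x := fun a b e => Subtype.ext e
  have x0 : ∀ {a}, x a = 1 ↔ a = 0 := ⟨fun e => xi e, fun e => e ▸ rfl⟩
  have xc : ∀ a, Commute t (x a) := fun a => mC.1 a.toMul.2
  let ρ : X.K →* Module.End ℤ M :=
    { toFun := fun k => AddMonoidHom.toIntLinearMap
        { toFun := fun a => Additive.ofMul ⟨k * x a * (k : G)⁻¹, mC.2 (A.conj_N k.2.1 (xc a))⟩
          map_zero' := xi (by simp [x])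
          map_add' := fun a b => xi conj_mul.symm }
      map_one' := LinearMap.ext fun a => xi (by simp [x])
      map_mul' := fun k l => LinearMap.ext fun a => xi (by simp [x, mul_assoc]) }
  let R := MonoidAlgebra ℤ X.K
  let _ : Module R M := Module.compHom M (MonoidAlgebra.lift ℤ (Module.End ℤ M) X.K ρ).toRingHom
  let φ : X.K →* R := MonoidAlgebra.of ℤ X.K
  have xs : ∀ k a, x (φ k • a) = k * x a * (k : G)⁻¹ := fun k a => by
    change x (MonoidAlgebra.lift ℤ (Module.End ℤ M) X.K ρ (MonoidAlgebra.of ℤ X.K k) a) = _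
    rw [MonoidAlgebra.lift_of]; rfl
  have ku : ∀ k : X.K, u * (k : G) = (k : G)⁻¹ * u := fun k => by
    rw [← X.K_inv k.2, inv_mul_cancel_right]
  have ku' : ∀ (k : X.K) y, u * ((k : G) * y) = (k : G)⁻¹ * (u * y) := fun k y => by
    rw [← mul_assoc, ku, mul_assoc]
  have ku'' : ∀ (k : X.K) y, u * ((k : G)⁻¹ * y) = (k : G) * (u * y) := fun k y => by
    simpa using ku' k⁻¹ y
  have uu : ∀ y, u * (u * y) = y := fun y => by rw [← mul_assoc, X.hu.1, one_mul]
  let T : M → M → X.K → M → Prop := fun c f k g => u * x c * u = x f * k * u * x g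
  have hM : Mouf φ T (Additive.ofMul ⟨t, mC.2 (Commute.refl t)⟩) := by
    refine ⟨fun k a h => ?_, fun k h => ?_, fun k => ?_, fun c hc => ?_, fun h h' => ?_,
      fun {c f k g} h hc => ?_, fun {c f k g} l h => ?_, fun {c f k g} h => ?_,
      fun {c f k g} h => ?_, fun {a f k g b f' k' g' f'' k'' g''} h1 h2 h3 => ?_,
      fun e => X.ht.2 (x0.2 e), xi X.ht.1, fun e h1 h2 => ?_, ?_⟩
    · refine or_iff_not_imp_left.2 fun hk => x0.1 (X.fpf k.2 (fun e => hk (Subtype.ext e)) (xc a) ?_)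
      have := congrArg x h
      rwa [xs, mul_inv_eq_iff_eq_mul] at this
    · refine Subtype.ext (X.K_sq k.2 ?_)
      rw [show (k : G) * k = 1 from by rw [← sq]; exact congrArg Subtype.val h]
      exact Commute.one_right _
    · refine Finite.surjective_of_injective (f := fun k : X.K => k ^ 2) (fun a b e => ?_) k
      refine mul_inv_eq_one.1 (Subtype.ext (X.K_sq (a * b⁻¹).2 ?_))
      have : (a * b⁻¹) * (a * b⁻¹) = 1 := by
        rw [← sq, mul_pow, inv_pow, show a ^ 2 = b ^ 2 from e, mul_inv_cancel]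
      rw [← coe_mul, this]
      exact Commute.one_right _
    · obtain ⟨f, k, g, h1, h2, h3, h4⟩ := X.bruhat (g := u * x c * u⁻¹)
        fun e => hc (x0.1 (X.cn (xc c) e))
      rw [X.hu.inv] at h4
      exact ⟨Additive.ofMul ⟨f, mC.2 h1⟩, ⟨k, h2⟩, Additive.ofMul ⟨g, mC.2 h3⟩, h4⟩
    · obtain ⟨e1, e2, e3⟩ := X.uniq (xc _) (Subtype.prop _) (xc _) (xc _) (Subtype.prop _) (xc _)
        (Eq.trans (Eq.symm h) h')
      exact ⟨xi e1, Subtype.ext e2, xi e3⟩
    · simp only [T] at h
      rw [x0.2 hc, mul_one, X.hu.1] at h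
      refine X.u_not_mem ?_
      have : u = (x f * k)⁻¹ * (x g)⁻¹ := by
        rw [← mul_inv_rev, eq_inv_iff_mul_eq_one]
        calc _ = (x f * k)⁻¹ * (x f * k * u * x g) * (x f * k) := by group
          _ = 1 := by rw [← h]; group
      have e := mul_mem (inv_mem (mul_mem (A.mem_N_of X.ht (xc f)) (X.mem_K.1 k.2).1))
        (inv_mem (A.mem_N_of X.ht (xc g)))
      rwa [← this] at e
    · simp only [T, xs] at h ⊢
      calc _ = (l : G)⁻¹ * (u * x c * u) * l := by
            simp only [mul_assoc, ku', ← ku l]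
        _ = _ := by
            rw [h, mul_comm (l⁻¹ ^ 2) k, ← mul_assoc, sq]
            have := (X.K_comm k.2 l.2).eq
            simp only [coe_mul, coe_inv, inv_inv, mul_assoc, ku'', inv_mul_cancel_left,
              mul_right_inj]
            rw [← mul_assoc, ← mul_assoc (l : G), ← this]; group
    · simp only [T, xn] at h ⊢
      calc _ = (u * x c * u)⁻¹ := by simp only [mul_inv_rev, X.hu.inv, mul_assoc]
        _ = _ := by
          rw [h]; simp only [mul_inv_rev, X.hu.inv, mul_assoc, ku'']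
    · simp only [T, xn, xs] at h ⊢
      have : x f = u * x c * u * (x g)⁻¹ * u * (k : G)⁻¹ := by
        rw [h]; simp [mul_assoc, uu]
      rw [this]
      simp only [coe_inv, mul_inv_rev, inv_inv, mul_assoc, ku'', uu, X.hu.1, inv_mul_cancel_left,
        mul_one]
    · simp only [T, xa, xs] at h1 h2 h3 ⊢
      calc _ = (u * x a * u) * (u * x b * u) := by simp only [mul_assoc, uu]
        _ = x f * k * (u * (x g * x f') * u) * k'⁻¹ * x g' := by
          rw [h1, h2]; simp only [mul_assoc, coe_inv, ku'']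
        _ = _ := by
          rw [h3, mul_right_comm k k' k'']
          simp only [coe_mul, coe_inv, mul_assoc, ku', inv_mul_cancel_left, mul_inv_cancel_left]
    · obtain ⟨k, hk, h3⟩ := X.exists_K_conj (s := x e) ⟨x0.2 h2, fun e => h1 (x0.1 e)⟩ (xc e)
      exact ⟨⟨k, hk⟩, xi (by rw [xs]; exact h3.symm)⟩
    · obtain ⟨k, hk, h1⟩ := X.exists_K_ne
      exact ⟨⟨k, hk⟩, fun e => h1 (congrArg Subtype.val e)⟩
  obtain ⟨h2, s, hS, hs⟩ := hM.main
  obtain ⟨F, _, e, ψ, e1, e2, e3⟩ := hS.exists_field h2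
  have hF : ∀ a : F, -a = a := fun a =>
    neg_eq_of_add_eq_zero_left (e.injective (by rw [map_add, h2, map_zero]))
  have key : ∀ k : X.K, x (e (ψ k)) * (u * x (e (ψ k)⁻¹) * u⁻¹) * x (e (ψ k)) = (k : G) ^ 2 * u := by
    intro k
    have h3 := hS.scale k⁻¹ hs
    have h4 : ∀ k, e (ψ k) = φ k • s := fun k => by rw [← e1, ← e2, mul_one]
    simp only [T, inv_inv, mul_one] at h3
    have h5 : x (φ k • s) * x (φ k • s) = 1 := by rw [← xa, h2]; rfl
    rw [← map_inv, h4, h4, X.hu.inv, h3]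
    calc _ = (x (φ k • s) * x (φ k • s)) * (k ^ 2 : X.K) * u * (x (φ k • s) * x (φ k • s)) := by
          group
      _ = _ := by rw [h5]; simp
  refine ⟨F, inferInstance, Finite.of_equiv _ e.symm.toEquiv,
    (CharP.charP_iff_prime_eq_zero Nat.prime_two).2 (by
      have := hF 1
      rw [neg_eq_iff_add_eq_zero] at this
      rw [← this]; norm_num),
    ⟨fun a => x (e a), fun a => u * x (e a) * u⁻¹, fun a b => by rw [map_add, xa],
      fun a b => by rw [map_add, xa, conj_mul], fun a b ha => ?_⟩, fun _ => rfl,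
    fun c => ⟨fun hc => ⟨e.symm (Additive.ofMul ⟨c, mC.2 hc⟩), by simp [x]⟩, ?_⟩,
    xi.comp e.injective, ?_⟩
  · obtain ⟨k, rfl⟩ := e3 a ha
    rw [hF, hF, key, ← map_inv, ← map_pow, e2, xs]
    simp only [mul_inv_rev, X.hu.inv, sq, mul_assoc, ku'', coe_mul, coe_inv, inv_inv,
      mul_right_inj]
    simpa using ku k⁻¹
  · rintro ⟨a, rfl⟩; exact xc _
  · simp only
    set B := closure (Set.range (fun a => x (e a)) ∪ Set.range fun a => u * x (e a) * u⁻¹)
    have b1 : ∀ a, x (e a) ∈ B := fun a => subset_closure (Or.inl ⟨a, rfl⟩)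
    have b2 : ∀ k : X.K, (k : G) ^ 2 * u ∈ B := fun k => by
      rw [← key]
      exact mul_mem (mul_mem (b1 _) (subset_closure (Or.inr ⟨_, rfl⟩))) (b1 _)
    have b3 : u ∈ B := by simpa using b2 1
    have b4 : ∀ k ∈ X.K, k ∈ B := fun k hk => by
      obtain ⟨l, hl⟩ := hS.sqrt ⟨k, hk⟩
      rw [show k = (l : G) ^ 2 from (congrArg Subtype.val hl).symm]
      exact (mul_mem_cancel_right b3).1 (b2 l)
    have b5 : ∀ c, Commute t c → c ∈ B := fun c hc => by
      simpa [x] using b1 (e.symm (Additive.ofMul ⟨c, mC.2 hc⟩))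
    rw [eq_top_iff]
    intro g _
    by_cases hg : g ∈ X.N
    · obtain ⟨c, h3, h4⟩ := X.exists_K hg
      exact (mul_mem_cancel_right (b5 c h3)).1 (b4 _ h4)
    · obtain ⟨c, k, d, h3, h4, h5, rfl⟩ := X.bruhat hg
      exact mul_mem (mul_mem (mul_mem (b5 c h3) (b4 k h4)) b3) (b5 d h5)

end Cfg

end Cfsg.Agent.AbInv
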